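import Groth.Agent.GenFinLib.Chart

/-!
# Generically finite dominant morphisms of integral schemes
-/

set_option autoImplicit false
universe u

open CategoryTheory CategoryTheory.Limits AlgebraicGeometry TopologicalSpace

namespace GenFinLib

variable {X Y : Scheme.{u}} (f : X ⟶ Y) [IsIntegral X] [IsIntegral Y] [IsDominant f]

omit [IsIntegral Y] [IsDominant f] in
theorem exists_chart (V : Y.Opens) (hξ : f.base (genericPoint X) ∈ V) (x : X) (hx : f.base x ∈ V) :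
    ∃ U : X.Opens, IsAffineOpen U ∧ x ∈ U ∧ U ≤ f ⁻¹ᵁ V ∧ Nonempty U := by
  obtain ⟨U, hU, hxU, hUV⟩ := exists_isAffineOpen_mem_and_subset (U := f ⁻¹ᵁ V) hx
  exact ⟨U, hU, hxU, hUV, ⟨⟨x, hxU⟩⟩⟩

theorem exists_inf_le (W : X.Opens) [LocallyOfFiniteType f] {U : X.Opens} {V : Y.Opens} (hU : IsAffineOpen U)
    (hV : IsAffineOpen V) (e : U ≤ f ⁻¹ᵁ V) [Nonempty U]
    (h : (f.residueFieldMap (genericPoint X)).hom.Finite) :
    ∃ c : Γ(Y, V), c ≠ 0 ∧ (genericPoint X ∈ W → U ⊓ f ⁻¹ᵁ Y.basicOpen c ≤ W) := by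
  haveI := nonempty_of_le f e
  by_cases hW : genericPoint X ∈ W
  · obtain ⟨c, hc, hcW⟩ := exists_basicOpen_le_of_isAlgebraic f hU hV e
      ((finite_iff_isAlgebraic f hU hV e).1 h) W hW
    exact ⟨c, hc, fun _ => hcW⟩
  · exact ⟨1, one_ne_zero, fun h' => absurd h' hW⟩

variable [LocallyOfFiniteType f]

theorem finite_of_isFinite_resLE {U : X.Opens} {V : Y.Opens} (hU : IsAffineOpen U) (hV : IsAffineOpen V)
    (e : U ≤ f ⁻¹ᵁ V) [Nonempty U] (hfin : IsFinite (f.resLE V U e)) :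
    (f.residueFieldMap (genericPoint X)).hom.Finite := by
  refine (finite_iff_isAlgebraic f hU hV e).2 ?_
  letI := (f.appLE V U e).hom.toAlgebra
  haveI : Module.Finite Γ(Y, V) Γ(X, U) := appLE_finite_of_isFinite f hU hV e hfin
  haveI := nonempty_of_le f e
  haveI : Algebra.IsIntegral Γ(Y, V) Γ(X, U) := inferInstance
  infer_instance

theorem exists_eq_preimage (h : (f.residueFieldMap (genericPoint X)).hom.Finite)
    (hsq : IsSeparated f ∨ QuasiCompact f) :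
    ∃ V : Y.Opens, IsAffineOpen V ∧ Nonempty ↥V ∧ IsFinite (f ∣_ V) := by
  obtain ⟨V, hV, hηV, -⟩ := exists_isAffineOpen_mem_and_subset (U := (⊤ : Y.Opens)) (Set.mem_univ (f.base (genericPoint X)))
  obtain ⟨U, hU, hξU, e, hne⟩ := exists_chart f V hηV (genericPoint X) hηV
  haveI := hne
  haveI := nonempty_of_le f e
  obtain ⟨a₀, ha₀, hfin⟩ := exists_isFinite_basicOpen f hU hV e ((finite_iff_isAlgebraic f hU hV e).1 h)
  suffices key : ∃ a : Γ(Y, V), a ≠ 0 ∧ a₀ ∣ a ∧ f ⁻¹ᵁ Y.basicOpen a ≤ U by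
    obtain ⟨a, ha, hdvd, hle⟩ := key
    refine ⟨Y.basicOpen a, hV.basicOpen a, ⟨⟨_, eval_ne_zero hV ha⟩⟩, ?_⟩
    have hres := hfin a hdvd
    have heq : X.basicOpen (f.appLE V U e a) = f ⁻¹ᵁ Y.basicOpen a := by
      rw [Scheme.basicOpen_appLE f U V e a]
      exact inf_eq_right.2 hle
    revert hres
    generalize_proofs pr
    revert pr
    rw [heq]
    intro pr hres
    rwa [Scheme.Hom.resLE_eq_morphismRestrict] at hres
  rcases hsq with hs | hq
  · refine ⟨a₀, ha₀, dvd_rfl, ?_⟩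
    haveI := hfin a₀ dvd_rfl
    set U₁ := X.basicOpen (f.appLE V U e a₀) with hU₁
    have hle : U₁ ≤ f ⁻¹ᵁ Y.basicOpen a₀ := (Scheme.basicOpen_appLE f U V e a₀).le.trans inf_le_right
    have hcomp : X.homOfLE hle ≫ f ∣_ Y.basicOpen a₀ = f.resLE (Y.basicOpen a₀) U₁ hle := rfl
    haveI : IsFinite (X.homOfLE hle ≫ f ∣_ Y.basicOpen a₀) := by rw [hcomp]; infer_instance
    haveI : IsFinite (X.homOfLE hle) :=
      MorphismProperty.of_postcomp @IsFinite (X.homOfLE hle) (f ∣_ Y.basicOpen a₀)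
        (inferInstance : IsSeparated (f ∣_ Y.basicOpen a₀)) ‹_›
    have hξ₁ : genericPoint X ∈ U₁ := by
      refine eval_ne_zero hU fun h0 => ha₀ (appLE_injective f hU hV e ?_)
      rw [h0, map_zero]
    haveI : Nonempty (f ⁻¹ᵁ Y.basicOpen a₀) := ⟨⟨_, hle hξ₁⟩⟩
    intro x hx
    have hopen : IsOpen (Set.range (X.homOfLE hle).base) := (X.homOfLE hle).isOpenEmbedding.isOpen_range
    have hclosed : IsClosed (Set.range (X.homOfLE hle).base) := (X.homOfLE hle).isClosedMap.isClosed_range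
    have huniv : Set.range (X.homOfLE hle).base = Set.univ := by
      rw [← hclosed.closure_eq]
      exact (hopen.dense ⟨_, ⟨⟨_, hξ₁⟩, rfl⟩⟩).closure_eq
    obtain ⟨⟨y, hy⟩, hyx⟩ := huniv.ge (Set.mem_univ (⟨x, hx⟩ : (f ⁻¹ᵁ Y.basicOpen a₀).toScheme))
    have hxy : y = x := (X.homOfLE_apply hle _).symm.trans (congrArg Subtype.val hyx)
    exact X.basicOpen_le _ (hxy ▸ hy)
  · haveI := hq
    classical
    have hc := f.isCompact_preimage hV.isCompact
    choose W hWa hWm hWle hWne using fun x : (f ⁻¹ᵁ V : X.Opens) => exists_chart f V hηV x.1 x.2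
    obtain ⟨t, ht⟩ := hc.elim_finite_subcover (fun x => (W x : Set X)) (fun x => (W x).isOpen)
      (fun x hx => Set.mem_iUnion.2 ⟨⟨x, hx⟩, hWm ⟨x, hx⟩⟩)
    choose c hc0 hcle using fun x => haveI := hWne x; exists_inf_le f U (hWa x) hV (hWle x) h
    refine ⟨a₀ * ∏ x ∈ t, c x, mul_ne_zero ha₀ (Finset.prod_ne_zero_iff.2 fun x _ => hc0 x), dvd_mul_right _ _, ?_⟩
    intro z hz
    have hzV : f.base z ∈ V := Y.basicOpen_le _ hz
    obtain ⟨x, hxt, hzx⟩ := Set.mem_iUnion₂.1 (ht hzV)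
    refine hcle x hξU ⟨hzx, ?_⟩
    rw [← Finset.mul_prod_erase t c hxt, ← mul_assoc, mul_comm a₀, mul_assoc, Scheme.preimage_basicOpen] at hz
    rw [SetLike.mem_coe, Scheme.preimage_basicOpen]
    rw [map_mul, Scheme.basicOpen_mul] at hz
    exact hz.1

theorem tfae :
    let ξ := genericPoint ↥X
    let A := letI := (f.residueFieldMap ξ).hom.toAlgebra
      Module.Finite (Y.residueField (f.base ξ)) (X.residueField ξ)
    let B := ∃ (U : X.Opens) (V : Y.Opens) (hUV : U ≤ f ⁻¹ᵁ V), IsAffineOpen U ∧ IsAffineOpen V ∧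
      Nonempty ↥U ∧ IsFinite (f.resLE V U hUV)
    let C := ∀ x : X, f.base x = genericPoint ↥Y → x = ξ
    let D := ∃ V : Y.Opens, IsAffineOpen V ∧ Nonempty ↥V ∧ IsFinite (f ∣_ V)
    (A ↔ B) ∧ (A ↔ C) ∧ (IsSeparated f ∨ QuasiCompact f → (A ↔ D)) := by
  show ((f.residueFieldMap (genericPoint X)).hom.Finite ↔ _) ∧ ((f.residueFieldMap (genericPoint X)).hom.Finite ↔ _) ∧
    (_ → ((f.residueFieldMap (genericPoint X)).hom.Finite ↔ _))
  obtain ⟨V, hV, hηV, -⟩ := exists_isAffineOpen_mem_and_subset (U := (⊤ : Y.Opens)) (Set.mem_univ (f.base (genericPoint X)))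
  obtain ⟨U, hU, hξU, e, hne⟩ := exists_chart f V hηV (genericPoint X) hηV
  haveI := hne
  refine ⟨⟨fun h => ?_, ?_⟩, ⟨fun h x hx => ?_, fun h => ?_⟩, fun hsq => ⟨fun h => exists_eq_preimage f h hsq, ?_⟩⟩
  · obtain ⟨a₀, ha₀, hfin⟩ := exists_isFinite_basicOpen f hU hV e ((finite_iff_isAlgebraic f hU hV e).1 h)
    haveI := nonempty_of_le f e
    refine ⟨_, _, _, hU.basicOpen _, hV.basicOpen _, ⟨⟨genericPoint X, ?_⟩⟩, hfin a₀ dvd_rfl⟩
    refine eval_ne_zero hU fun h0 => ha₀ (appLE_injective f hU hV e ?_)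
    rw [h0, map_zero]
  · rintro ⟨U', V', e', hU', hV', hne', hfin⟩
    haveI : Nonempty U' := hne'
    exact finite_of_isFinite_resLE f hU' hV' e' hfin
  · obtain ⟨W, hW, hxW, eW, hneW⟩ := exists_chart f V hηV x (by rw [hx, ← base_genericPoint f]; exact hηV)
    haveI := hneW
    exact (isAlgebraic_iff_forall_eq f hW hV eW).1 ((finite_iff_isAlgebraic f hW hV eW).1 h) x hxW hx
  · exact (finite_iff_isAlgebraic f hU hV e).2 ((isAlgebraic_iff_forall_eq f hU hV e).2 fun x _ hx => h x hx)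
  · rintro ⟨V', hV', hne', hfin⟩
    haveI := hfin
    haveI : Nonempty V' := hne'
    have hU' : IsAffineOpen (f ⁻¹ᵁ V') := by
      haveI : IsAffine V' := hV'
      exact isAffine_of_isAffineHom (f ∣_ V')
    haveI : Nonempty (f ⁻¹ᵁ V' : X.Opens) := ⟨⟨genericPoint X, by
      show f.base (genericPoint X) ∈ V'
      rw [base_genericPoint f]; exact genericPoint_mem V'⟩⟩
    exact finite_of_isFinite_resLE f hU' hV' le_rfl (by rw [Scheme.Hom.resLE_eq_morphismRestrict]; exact hfin)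

end GenFinLib
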